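import Groth.Prelude.Def_Frob
import Groth.Agent.Lib.BlowUp.IdealComap
import Groth.Agent.Lib.FSchSys.Ker
import Mathlib.AlgebraicGeometry.IdealSheaf.Functorial
import Mathlib.AlgebraicGeometry.Morphisms.Affine
import Mathlib.FieldTheory.IsAlgClosed.AlgebraicClosure

/-!
# Frobenius twisted correspondences are contracting near invariant closed subschemes
-/

set_option autoImplicit false
set_option linter.all false
set_option backward.isDefEq.respectTransparency false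

universe u

open AlgebraicGeometry CategoryTheory CategoryTheory.Limits TopologicalSpace Opposite

noncomputable section

namespace GrothLib.FrobContract10

variable (p : ℕ) [Fact p.Prime]

/-- The `p^N`-th power map. -/
def qHom (R : Type u) [CommRing R] (h : (p : R) = 0) (N : ℕ) : R →+* R where
  toFun x := x ^ p ^ N
  map_one' := one_pow _
  map_mul' x y := mul_pow _ _ _
  map_zero' := zero_pow (pow_ne_zero _ (Fact.out : p.Prime).ne_zero)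
  map_add' x y := by
    induction N with
    | zero => simp
    | succ N ih =>
      simp only [pow_succ, pow_mul] at ih ⊢
      rw [ih]
      exact map_add (FrobSch.powHom p R h) _ _

theorem frobPow_apply {X : Scheme.{u}} [FrobSch.IsCharP X p] :
    ∀ (N : ℕ) (x : X), (End.asHom (End.of (FrobSch.frob X p) ^ N)).base x = x
  | 0, x => by rw [pow_zero]; rfl
  | N + 1, x => by
    rw [pow_succ]
    show (FrobSch.frob X p ≫ End.asHom (End.of (FrobSch.frob X p) ^ N)).base x = x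
    rw [Scheme.Hom.comp_apply, FrobSch.frob_apply, frobPow_apply N x]

theorem frobPow_appLE {X : Scheme.{u}} [FrobSch.IsCharP X p] :
    ∀ (N : ℕ) (U : X.Opens) (h : U ≤ End.asHom (End.of (FrobSch.frob X p) ^ N) ⁻¹ᵁ U) (a : Γ(X, U)),
      (End.asHom (End.of (FrobSch.frob X p) ^ N)).appLE U U h a = a ^ p ^ N
  | 0, U, h, a => by
    have key : ∀ (f : X ⟶ X) (h : U ≤ f ⁻¹ᵁ U), f = 𝟙 X → f.appLE U U h a = a := by
      rintro _ h rfl
      simp [Scheme.Hom.appLE]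
      exact ConcreteCategory.congr_hom (X.presheaf.map_id (op U)) a
    rw [key _ h (by rw [pow_zero]; rfl), pow_zero, pow_one]
  | N + 1, U, h, a => by
    have h' : U ≤ End.asHom (End.of (FrobSch.frob X p) ^ N) ⁻¹ᵁ U := fun x hx => by
      show (End.asHom (End.of (FrobSch.frob X p) ^ N)).base x ∈ U
      rw [frobPow_apply]; exact hx
    have key : ∀ (f : X ⟶ X) (h : U ≤ f ⁻¹ᵁ U), f = FrobSch.frob X p ≫ End.asHom (End.of (FrobSch.frob X p) ^ N) →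
        f.appLE U U h a = a ^ p ^ (N + 1) := by
      rintro _ h rfl
      rw [← Scheme.Hom.appLE_comp_appLE _ _ U U U h' (FrobSch.frob_preimage X p U).ge, CommRingCat.comp_apply,
        frobPow_appLE N U h' a, pow_succ (n := N), pow_mul]
      show X.presheaf.map (homOfLE _).op ((FrobSch.frob X p).app U (a ^ p ^ N)) = _
      rw [FrobSch.frob_app]
      exact ConcreteCategory.congr_hom (X.presheaf.map_id (op U)) _
    exact key _ h (by rw [pow_succ]; rfl)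

theorem topIso_hom_apply_appTop {X Y : Scheme.{u}} (f : X ⟶ Y) (U : Y.Opens) (a : Γ(U, ⊤)) :
    (f ⁻¹ᵁ U).topIso.hom ((f ∣_ U).appTop a) = f.appLE U (f ⁻¹ᵁ U) le_rfl (U.topIso.hom a) := by
  rw [← CommRingCat.comp_apply, ← CommRingCat.comp_apply, morphismRestrict_appTop]
  congr 2
  simp [Scheme.Hom.appLE, Scheme.Hom.naturality, Scheme.Hom.naturality_assoc, ← Functor.map_comp]
  rfl

theorem topIso_hom_apply_ι_comp {X Y : Scheme.{u}} (f : X ⟶ Y) (U : X.Opens) (a : Γ(Y, ⊤)) :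
    U.topIso.hom ((U.ι ≫ f).appTop a) = f.appLE ⊤ U le_top a := by
  show ((U.ι ≫ f).appTop ≫ U.topIso.hom) a = _
  congr 2
  simp [Scheme.Hom.appLE, ← Functor.map_comp]

section

variable {C C₀ : Scheme.{u}} {k₀ : Type u} [Field k₀] {K : Type u} [Field K] [IsAlgClosed K] [Algebra k₀ K]
  {f₀ : C₀ ⟶ Spec (CommRingCat.of k₀)} [FrobSch.IsCharP C₀ p]
  {πC₀ : C ⟶ C₀} {πK : C ⟶ Spec (CommRingCat.of K)}
  (hC : IsPullback πC₀ πK f₀ (Spec.map (CommRingCat.ofHom (algebraMap k₀ K))))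
  {N : ℕ} {Fr : C ⟶ C}
  (hFr₀ : Fr ≫ πC₀ = πC₀ ≫ End.asHom (End.of (FrobSch.frob C₀ p) ^ N))
  (hFrK : Fr ≫ πK = πK)
include hC hFr₀ hFrK

theorem base_fst (z : C) : πC₀.base (Fr.base z) = πC₀.base z := by
  rw [← Scheme.Hom.comp_apply, hFr₀, Scheme.Hom.comp_apply, frobPow_apply]

theorem le_preimage (U₀ : C₀.Opens) : πC₀ ⁻¹ᵁ U₀ ≤ Fr ⁻¹ᵁ (πC₀ ⁻¹ᵁ U₀) := fun z hz => by
  show πC₀.base (Fr.base z) ∈ U₀
  rw [base_fst p hC hFr₀ hFrK]; exact hz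

/-- Every value of the twisted Frobenius on a chart is a power. -/
theorem exists_pow_eq {U₀ : C₀.Opens} (hU₀ : IsAffineOpen U₀) (x : Γ(C, πC₀ ⁻¹ᵁ U₀)) :
    ∃ y, Fr.appLE _ _ (le_preimage p hC hFr₀ hFrK U₀) x = y ^ p ^ N := by
  haveI : IsAffine (U₀ : Scheme.{u}) := hU₀
  have hp0 : (p : Γ(C, πC₀ ⁻¹ᵁ U₀)) = 0 := by
    haveI := FrobSch.IsCharP.of_hom πC₀ p
    exact FrobSch.natCast_eq_zero_app C p _
  have hP := (isPullback_morphismRestrict πC₀ U₀).paste_vert hC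
  have hpush := isPushout_appTop_of_isPullback hP
  let G : Γ((πC₀ ⁻¹ᵁ U₀ : C.Opens), ⊤) →+* Γ(C, πC₀ ⁻¹ᵁ U₀) :=
    (Fr.appLE _ _ (le_preimage p hC hFr₀ hFrK U₀)).hom.comp (πC₀ ⁻¹ᵁ U₀).topIso.hom.hom
  let T : Subring Γ((πC₀ ⁻¹ᵁ U₀ : C.Opens), ⊤) := (qHom p _ hp0 N).range.comap G
  have h₁ : ∀ a, (πC₀ ∣_ U₀).appTop a ∈ T := fun a => by
    refine ⟨πC₀.appLE U₀ _ le_rfl (U₀.topIso.hom a), ?_⟩
    show _ = Fr.appLE _ _ _ ((πC₀ ⁻¹ᵁ U₀).topIso.hom ((πC₀ ∣_ U₀).appTop a))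
    rw [topIso_hom_apply_appTop, ← CommRingCat.comp_apply (Scheme.Hom.appLE πC₀ _ _ _) (Fr.appLE _ _ _),
      Scheme.Hom.appLE_comp_appLE]
    have key : ∀ (g : C ⟶ C₀) (hg : πC₀ ⁻¹ᵁ U₀ ≤ g ⁻¹ᵁ U₀), g = πC₀ ≫ End.asHom (End.of (FrobSch.frob C₀ p) ^ N) →
        g.appLE U₀ _ hg (U₀.topIso.hom a) = (πC₀.appLE U₀ _ le_rfl (U₀.topIso.hom a)) ^ p ^ N := by
      rintro _ hg rfl
      have h' : U₀ ≤ End.asHom (End.of (FrobSch.frob C₀ p) ^ N) ⁻¹ᵁ U₀ := fun z hz => by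
        show (End.asHom (End.of (FrobSch.frob C₀ p) ^ N)).base z ∈ U₀
        rw [frobPow_apply]; exact hz
      rw [← Scheme.Hom.appLE_comp_appLE _ _ U₀ U₀ _ h' le_rfl, CommRingCat.comp_apply, frobPow_appLE, map_pow]
    exact (key _ _ hFr₀).symm
  have h₂ : ∀ a, ((πC₀ ⁻¹ᵁ U₀).ι ≫ πK).appTop a ∈ T := fun a => by
    obtain ⟨l, hl⟩ := IsAlgClosed.exists_pow_nat_eq
      ((Scheme.ΓSpecIso (CommRingCat.of K)).hom a) (Nat.pow_pos (Fact.out : p.Prime).pos (n := N))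
    refine ⟨πK.appLE ⊤ _ le_top ((Scheme.ΓSpecIso (CommRingCat.of K)).inv l), ?_⟩
    show _ = Fr.appLE _ _ _ ((πC₀ ⁻¹ᵁ U₀).topIso.hom (((πC₀ ⁻¹ᵁ U₀).ι ≫ πK).appTop a))
    rw [topIso_hom_apply_ι_comp, ← CommRingCat.comp_apply (Scheme.Hom.appLE πK _ _ _) (Fr.appLE _ _ _),
      Scheme.Hom.appLE_comp_appLE]
    have key : ∀ (g : C ⟶ Spec (CommRingCat.of K)) (hg : πC₀ ⁻¹ᵁ U₀ ≤ g ⁻¹ᵁ ⊤), g = πK →
        g.appLE ⊤ _ hg a = πK.appLE ⊤ (πC₀ ⁻¹ᵁ U₀) le_top a := by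
      rintro _ hg rfl; rfl
    rw [key _ _ hFrK]
    show (πK.appLE ⊤ _ le_top _) ^ p ^ N = _
    rw [← map_pow, ← map_pow, hl, Iso.hom_inv_id_apply]
  let j₁ : Γ(U₀, ⊤) ⟶ CommRingCat.of T := CommRingCat.ofHom ((πC₀ ∣_ U₀).appTop.hom.codRestrict T h₁)
  let j₂ : Γ(Spec (CommRingCat.of K), ⊤) ⟶ CommRingCat.of T :=
    CommRingCat.ofHom ((((πC₀ ⁻¹ᵁ U₀).ι ≫ πK).appTop).hom.codRestrict T h₂)
  have hw : (U₀.ι ≫ f₀).appTop ≫ j₁ = (Spec.map (CommRingCat.ofHom (algebraMap k₀ K))).appTop ≫ j₂ :=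
    CommRingCat.hom_ext (RingHom.ext fun a => Subtype.ext (ConcreteCategory.congr_hom hpush.w a))
  have hid : hpush.desc j₁ j₂ hw ≫ CommRingCat.ofHom T.subtype = 𝟙 _ := by
    refine hpush.hom_ext ?_ ?_
    · rw [IsPushout.inl_desc_assoc, Category.comp_id]; rfl
    · rw [IsPushout.inr_desc_assoc, Category.comp_id]; rfl
  let x' := (πC₀ ⁻¹ᵁ U₀).topIso.inv x
  obtain ⟨y, hy⟩ : x' ∈ T := by
    have := ConcreteCategory.congr_hom hid x'
    rw [show (𝟙 _ : Γ((πC₀ ⁻¹ᵁ U₀ : C.Opens), ⊤) ⟶ _) x' = x' from rfl] at this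
    rw [← this]
    exact Subtype.prop _
  refine ⟨y, ?_⟩
  have hy' : y ^ p ^ N = Fr.appLE _ _ (le_preimage p hC hFr₀ hFrK U₀) ((πC₀ ⁻¹ᵁ U₀).topIso.hom x') := hy
  rw [hy', Iso.inv_hom_id_apply]

/-- Near an invariant locus the twisted correspondence is contracting. -/
theorem ideal_le (J K' : C.IdealSheafData) (d : ℕ) (hd : K'.radical ^ d ≤ K') (hn : d < p ^ N) (W : C.Opens)
    (hinv : ∀ z ∈ W, z ∈ K'.support → Fr.base z ∈ J.support) (V : C.affineOpens) (hVW : V.1 ≤ W)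
    {U₀ : C₀.Opens} (hU₀ : IsAffineOpen U₀) (hV : V.1 ≤ πC₀ ⁻¹ᵁ U₀) :
    (J.comap Fr).ideal V ≤ K'.ideal V ∧ (J.comap Fr).ideal V ^ d ≤ K'.ideal V ^ (d + 1) := by
  haveI : IsAffineHom πC₀ := MorphismProperty.of_isPullback hC.flip inferInstance
  have hVU : V.1 ≤ Fr ⁻¹ᵁ (πC₀ ⁻¹ᵁ U₀) := hV.trans (le_preimage p hC hFr₀ hFrK U₀)
  have he := BlowUp.ideal_comap_eq_map J Fr ⟨_, hU₀.preimage πC₀⟩ V hVU
  have hrad : (J.comap Fr).ideal V ≤ (K'.ideal V).radical := by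
    intro g hg
    rw [Ideal.radical_eq_sInf, Ideal.mem_sInf]
    rintro P ⟨hKP, hP⟩
    let q : PrimeSpectrum Γ(C, V.1) := ⟨P, hP⟩
    have hmem : V.2.fromSpec.base q ∈ V.1 := by
      rw [← SetLike.mem_coe, ← V.2.range_fromSpec]; exact ⟨q, rfl⟩
    have hqK : q ∈ V.2.fromSpec.base ⁻¹' C.zeroLocus (U := V.1) (K'.ideal V) := by
      rw [V.2.fromSpec_preimage_zeroLocus]; exact hKP
    have hzK : V.2.fromSpec.base q ∈ K'.support :=
      (Scheme.IdealSheafData.mem_support_iff_of_mem hmem).2 hqK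
    have hzA : V.2.fromSpec.base q ∈ (J.comap Fr).support := by
      rw [Scheme.IdealSheafData.support_comap]
      exact hinv _ (hVW hmem) hzK
    have hqA : q ∈ V.2.fromSpec.base ⁻¹' C.zeroLocus (U := V.1) ((J.comap Fr).ideal V) :=
      (Scheme.IdealSheafData.mem_support_iff_of_mem hmem).1 hzA
    rw [V.2.fromSpec_preimage_zeroLocus] at hqA
    exact hqA hg
  have hle : (J.comap Fr).ideal V ≤ (K'.ideal V).radical ^ p ^ N := by
    rw [he, Ideal.map_le_iff_le_comap]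
    intro a ha
    obtain ⟨y, hy⟩ := exists_pow_eq p hC hFr₀ hFrK hU₀ a
    have e : Fr.appLE _ V.1 hVU a = (C.presheaf.map (homOfLE hV).op y) ^ p ^ N := by
      rw [← map_pow, ← hy, ← CommRingCat.comp_apply, Scheme.Hom.appLE_map]
    show Fr.appLE _ V.1 hVU a ∈ (K'.ideal V).radical ^ p ^ N
    rw [e]
    refine Ideal.pow_mem_pow ?_ _
    have hmem : Fr.appLE _ V.1 hVU a ∈ (K'.ideal V).radical := by
      refine hrad ?_
      rw [he]; exact Ideal.mem_map_of_mem _ ha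
    rw [e] at hmem
    exact Ideal.mem_radical_of_pow_mem hmem
  have hd' : (K'.ideal V).radical ^ d ≤ K'.ideal V := hd V
  refine ⟨hle.trans ((Ideal.pow_le_pow_right hn.le).trans hd'), ?_⟩
  calc (J.comap Fr).ideal V ^ d ≤ ((K'.ideal V).radical ^ p ^ N) ^ d := Ideal.pow_right_mono hle d
    _ = ((K'.ideal V).radical ^ d) ^ p ^ N := by rw [← pow_mul, ← pow_mul, mul_comm]
    _ ≤ K'.ideal V ^ p ^ N := Ideal.pow_right_mono hd' _
    _ ≤ K'.ideal V ^ (d + 1) := Ideal.pow_le_pow_right hn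

/-- Contraction on an open where the locus is invariant. -/
theorem comap_le (J K' : C.IdealSheafData) (d : ℕ) (hd : K'.radical ^ d ≤ K') (hn : d < p ^ N) (W : C.Opens)
    (hinv : ∀ z ∈ W, z ∈ K'.support → Fr.base z ∈ J.support) :
    (J.comap Fr).comap W.ι ≤ K'.comap W.ι ∧
      (J.comap Fr).comap W.ι ^ d ≤ (K'.comap W.ι) ^ (d + 1) := by
  classical
  have hcov : ∀ w : (W : Scheme.{u}), ∃ (V' : (W : Scheme.{u}).affineOpens) (V : C.affineOpens) (U₀ : C₀.Opens),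
      IsAffineOpen U₀ ∧ w ∈ V'.1 ∧ V'.1 ≤ W.ι ⁻¹ᵁ V.1 ∧ V.1 ≤ W ∧ V.1 ≤ πC₀ ⁻¹ᵁ U₀ := by
    intro w
    obtain ⟨_, ⟨U₀, hU₀, rfl⟩, hwU, -⟩ := C₀.isBasis_affineOpens.exists_subset_of_mem_open
      (Set.mem_univ (πC₀.base (W.ι.base w))) isOpen_univ
    obtain ⟨_, ⟨V, hV, rfl⟩, hwV, hVle⟩ := C.isBasis_affineOpens.exists_subset_of_mem_open
      (show W.ι.base w ∈ W ⊓ πC₀ ⁻¹ᵁ U₀ from ⟨w.2, hwU⟩) (W ⊓ πC₀ ⁻¹ᵁ U₀).2
    have hVW : V ≤ W := fun z hz => (hVle hz).1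
    exact ⟨⟨W.ι ⁻¹ᵁ V, hV.preimage_of_isOpenImmersion W.ι (hVW.trans_eq W.opensRange_ι.symm)⟩,
      ⟨V, hV⟩, U₀, hU₀, hwV, le_rfl, hVW, fun z hz => (hVle hz).2⟩
  choose V' V U₀ hU₀ hwV hV' hVW hVU using hcov
  have htop : ⨆ w, (V' w).1 = ⊤ := top_le_iff.mp fun w _ => Opens.mem_iSup.mpr ⟨w, hwV w⟩
  constructor
  · refine Scheme.IdealSheafData.le_of_iSup_eq_top V' htop fun w => ?_
    rw [BlowUp.ideal_comap_eq_map _ _ (V w) (V' w) (hV' w), BlowUp.ideal_comap_eq_map _ _ (V w) (V' w) (hV' w)]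
    exact Ideal.map_mono (ideal_le p hC hFr₀ hFrK J K' d hd hn W hinv (V w) (hVW w) (hU₀ w) (hVU w)).1
  · refine Scheme.IdealSheafData.le_of_iSup_eq_top V' htop fun w => ?_
    simp only [Scheme.IdealSheafData.ideal_pow, Pi.pow_apply]
    rw [BlowUp.ideal_comap_eq_map _ _ (V w) (V' w) (hV' w), BlowUp.ideal_comap_eq_map _ _ (V w) (V' w) (hV' w),
      ← Ideal.map_pow, ← Ideal.map_pow]
    exact Ideal.map_mono (ideal_le p hC hFr₀ hFrK J K' d hd hn W hinv (V w) (hVW w) (hU₀ w) (hVU w)).2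

/-- Contraction everywhere. -/
theorem le_of_invariant (J K' : C.IdealSheafData) (d : ℕ) (hd : K'.radical ^ d ≤ K') (hn : d < p ^ N)
    (hinv : ∀ z : C, z ∈ K'.support → Fr.base z ∈ J.support) :
    J.comap Fr ≤ K' ∧ J.comap Fr ^ d ≤ K' ^ (d + 1) := by
  classical
  have hcov : ∀ z : C, ∃ (V : C.affineOpens) (U₀ : C₀.Opens), IsAffineOpen U₀ ∧ z ∈ V.1 ∧ V.1 ≤ πC₀ ⁻¹ᵁ U₀ := by
    intro z
    obtain ⟨_, ⟨U₀, hU₀, rfl⟩, hzU, -⟩ := C₀.isBasis_affineOpens.exists_subset_of_mem_open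
      (Set.mem_univ (πC₀.base z)) isOpen_univ
    obtain ⟨_, ⟨V, hV, rfl⟩, hzV, hVle⟩ := C.isBasis_affineOpens.exists_subset_of_mem_open
      (show z ∈ πC₀ ⁻¹ᵁ U₀ from hzU) (πC₀ ⁻¹ᵁ U₀).2
    exact ⟨⟨V, hV⟩, U₀, hU₀, hzV, hVle⟩
  choose V U₀ hU₀ hzV hVU using hcov
  have htop : ⨆ z, (V z).1 = ⊤ := top_le_iff.mp fun z _ => Opens.mem_iSup.mpr ⟨z, hzV z⟩
  constructor
  · exact Scheme.IdealSheafData.le_of_iSup_eq_top V htop fun z =>
      (ideal_le p hC hFr₀ hFrK J K' d hd hn ⊤ (fun z _ => hinv z) (V z) le_top (hU₀ z) (hVU z)).1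
  · exact Scheme.IdealSheafData.le_of_iSup_eq_top V htop fun z =>
      (ideal_le p hC hFr₀ hFrK J K' d hd hn ⊤ (fun z _ => hinv z) (V z) le_top (hU₀ z) (hVU z)).2

end

end GrothLib.FrobContract10
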